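import Mathlib
import Cfsg.Agent.Lib.Helper47.T64.Defs
import Cfsg.Agent.Lib.Helper47.T64.B1
import Cfsg.Agent.Lib.Helper47.T64.B2

set_option autoImplicit false

namespace Cfsg.Agent.Lib.Helper48.T2933N

/-- the four elements `1, a, ρ a, ρ² a` -/
def pt {T : Type*} [Group T] (ρ : MulAut T) (a : T) (i : Fin 4) : T :=
  match i with
  | 0 => 1
  | 1 => a
  | 2 => ρ a
  | 3 => ρ (ρ a)

end Cfsg.Agent.Lib.Helper48.T2933N
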